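import Cfsg.Agent.Omega.NO3b.Union.Line
import Cfsg.Agent.Omega.NO3b.K0.Bridge
import Cfsg.Agent.Omega.NO3b.K0.FullOff
import Cfsg.Agent.Omega.FFBr.Final
import Cfsg.Agent.Omega.Node.NO3S

/-!
# The union text for NotFF (helper1, #15791; referee #15980): the leaf from what is left

`notFF` : `NO3S.NotFF K` from

* `Beta K` : (a) the case BETA;
* `Loc K` : (c) ALPHA, all situations `(F, X)` are local;
* `Cen K` : (d) (CEN) for the nonlocal situations.
-/

set_option autoImplicit false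
set_option linter.unusedSectionVars false

namespace Cfsg.Agent.Omega.NO3b.Union

open Subgroup Cfsg Cfsg.Agent.ZN Cfsg.Agent.ZN.ChoiceBase Cfsg.Agent.Omega.MinPar Cfsg.Agent.Omega.Frame
open Cfsg.Agent.Omega.FrameNOFF
open Cfsg.Agent.Omega.NO1 Cfsg.Agent.Omega.NO1.JMin
open Cfsg.Agent.Omega.NO3b.EZero (NotFF)
open Cfsg.Agent.Omega.NOne.Flat (Bad WW)
open Cfsg.Agent.MinSimple.VModule (oddGen)

universe u

section

variable {G : Type u} [Group G] [Finite G] {S : Sylow 2 G} {P M F X : Subgroup G}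

theorem Cf.of_not_ffMod (hc : IsCharacteristicTwoType G) (hP : IsParS (S : Subgroup G) P)
    (h : ¬ NO3S.FFMod (S : Subgroup G) P) : Cf S P :=
  ⟨hc, hP, fun A hA ho => h ⟨A, hA, ho⟩⟩

/-- `C_G(Z) ≰ N_G(V)` -/
theorem not_cent_le (hI : Inv (S : Subgroup G) P M) (hn : NonLoc P (CZ (S : Subgroup G)))
    (hZ : zc (S : Subgroup G) ≠ ⊥) :
    ¬ centralizer (zc (S : Subgroup G) : Set G) ≤ normalizer (zl (S : Subgroup G) M : Set G) := by
  intro hle
  have h1 := hn _ (V_two hI) (hI.PM.trans (M_le hI)) hle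
  exact hZ (le_bot_iff.1 (h1 ▸ Z_le hI))

/-- (4) with the FF theorem. -/
theorem Sit.false_of (s : Sit S P M F X) (hloc : NonLoc (LL (S : Subgroup G) M) X)
    (hcen : EZero.cl (zl (S : Subgroup G) M) X ⊓
      centralizer (((S : Subgroup G) ⊓ centralizer (F : Set G) : Subgroup G) : Set G) ≤
        centralizer (oddGen X : Set G)) : False :=
  s.absurd (K0.noOv FFBr.aStmt s.sylX s.mp) (K0.fullOff FFBr.aStmt s.sylX s.mp) hloc hcen

/-- **`F = Z` and `⟨L, X⟩` nonlocal is impossible.** -/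
theorem Sit.false_of_Z (s : Sit S P M F X) (hF : F = zc (S : Subgroup G))
    (hloc : NonLoc (LL (S : Subgroup G) M) X) : False :=
  s.false_of hloc (s.cen_of_Z hF hloc)

end

variable (K : Cls.{u})

/-- **(a) BETA.** -/
def Beta : Prop :=
  ∀ (G : Type u) [Group G] [Finite G], K G → ∀ (S : Sylow 2 G) (P M F : Subgroup G), NO3S.HypC S → Cf S P →
    NonLoc P (CZ (S : Subgroup G)) → Ch (S : Subgroup G) P (Fam (S : Subgroup G)) M →
      NotFF (zl (S : Subgroup G) M) → NOne.Flat.Hyp (zl (S : Subgroup G) M) F →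
        WW (zl (S : Subgroup G) M) F ≤ S → ¬ WW (zl (S : Subgroup G) M) F ≤ o2 P → IsKnownSimple' G

/-- **(c) LOCAL EXIT**: ALPHA, all situations with `Z ≤ F` are local. -/
def Loc : Prop :=
  ∀ (G : Type u) [Group G] [Finite G], K G → ∀ (S : Sylow 2 G) (P M : Subgroup G), NO3S.HypC S → Cf S P →
    NonLoc P (CZ (S : Subgroup G)) → Ch (S : Subgroup G) P (Fam (S : Subgroup G)) M → Alpha S P M →
      (∀ F X : Subgroup G, Sit S P M F X → zc (S : Subgroup G) ≤ F → ¬ NonLoc (LL (S : Subgroup G) M) X) →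
        IsKnownSimple' G

/-- **(d) (CEN)** for the nonlocal situations with `Z < F` (so `X ≤ C_G(Z)`). -/
def Cen : Prop :=
  ∀ (G : Type u) [Group G] [Finite G], K G → ∀ (S : Sylow 2 G) (P M F X : Subgroup G), NO3S.HypC S → Cf S P →
    NonLoc P (CZ (S : Subgroup G)) → Ch (S : Subgroup G) P (Fam (S : Subgroup G)) M → Sit S P M F X →
      zc (S : Subgroup G) ≤ F → F ≠ zc (S : Subgroup G) → NonLoc (LL (S : Subgroup G) M) X →
        EZero.cl (zl (S : Subgroup G) M) X ⊓
          centralizer (((S : Subgroup G) ⊓ centralizer (F : Set G) : Subgroup G) : Set G) ≤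
            centralizer (oddGen X : Set G)

variable {K}

/-- **The leaf NotFF.** -/
theorem notFF_leaf (hB : Beta K) (hL : Loc K) (hC : Cen K) : NO3S.NotFF K := by
  intro G _ _ hK S h hff
  obtain ⟨P, hP, hn⟩ := h.ex
  have hcf : Cf S P := Cf.of_not_ffMod h.ctx.char2 hP (hff P hP hn)
  obtain ⟨M, c, hnff, ha | ⟨F, hF, h1, h2⟩⟩ := hcf.exists_chain
  · by_cases hex : ∃ F X : Subgroup G, Sit S P M F X ∧ zc (S : Subgroup G) ≤ F ∧ NonLoc (LL (S : Subgroup G) M) X
    · obtain ⟨F, X, s, hZF, hloc⟩ := hex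
      by_cases hZ : F = zc (S : Subgroup G)
      · exact (s.false_of_Z hZ hloc).elim
      · exact (s.false_of hloc (hC G hK S P M F X h hcf hn c s hZF hZ hloc)).elim
    · push Not at hex
      exact hL G hK S P M h hcf hn c ha hex
  · exact hB G hK S P M F h hcf hn c hnff hF h1 h2

end Cfsg.Agent.Omega.NO3b.Union
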