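import Cfsg.Agent.Omega.NO3b.Union.Dich
import Cfsg.Agent.Omega.NO3b.K0.Main
import Cfsg.Agent.Omega.IId.KOne

/-!
# The union text for NotFF (helper1, #15791; referee #15980), parts (2)-(5)

* `Alpha.ti` : **(2)** two conjugates of `V` which meet nontrivially commute;
* `InvU.exists_cj` : `D ≤ V ∩ V^g` ⟹ `V^g = V^c`, `c ∈ C_G(D)`;
* `Sit S P M F X` : `F ≤ V` is maximal with `C_G(F) ≰ N_G(V)`, `T = C_S(F)` is Sylow in `C_M(F)`, `X` is minimal
  with `T ≤ X ≤ C_G(F)`, `X ≰ N_G(V)`; `Alpha.exists_sit`;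
* `Sit.base` : **(3)** the abstract situation of K0 if `⟨L, X⟩` is nonlocal, `L = N_G(V) ∩ N_G(C_S(V)) ≥ P`;
* `Sit.absurd` : **(4)** K0 kills ALPHA if moreover `C_U(T) ≤ C(O²(X))`, `U = ⟨V^X⟩`;
* `Sit.first` : **(5)**.
-/

set_option autoImplicit false
set_option linter.unusedSectionVars false

namespace Cfsg.Agent.Omega.NO3b.Union

open Subgroup Cfsg Cfsg.Agent.ZN Cfsg.Agent.ZN.ChoiceBase Cfsg.Agent.Omega.MinPar Cfsg.Agent.Omega.Frame
open Cfsg.Agent.Omega.NO1 Cfsg.Agent.Omega.NO1.JMin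
open Cfsg.Agent.ZN.ChoiceSit (Syl syl_conj exists_syl o2_le_syl o2_cj)
open Cfsg.Agent.Omega.NO3b.EZero (NotFF)
open Cfsg.Agent.Omega.NO3b.K0 (Base)
open Cfsg.Agent.MinSimple.MinParabolic (IsMinPar)
open Cfsg.Agent.MinSimple.VModule (oddGen)

universe u

variable {G : Type u} [Group G] [Finite G] {S : Sylow 2 G} {P M F X : Subgroup G}

/-- **(2)** TI -/
theorem Alpha.ti (a : Alpha S P M) {g : G}
    (hne : zl (S : Subgroup G) M ⊓ cj g (zl (S : Subgroup G) M) ≠ ⊥) :
    zl (S : Subgroup G) M ≤ centralizer ((cj g (zl (S : Subgroup G) M) : Subgroup G) : Set G) := by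
  set V := zl (S : Subgroup G) M with hV
  set D := V ⊓ cj g V with hD
  have hN : M ≤ normalizer (V : Set G) := Union.M_le a.inv.toInv
  have hD' : cj g⁻¹ D ≤ V := by
    have := cj_mono g⁻¹ (inf_le_right : D ≤ cj g V)
    rwa [cj_inv_cj] at this
  have hne' : cj g⁻¹ D ≠ ⊥ := fun h0 => hne (by
    have h1 := congrArg (cj g) h0
    rwa [cj_cj_inv, cj, Subgroup.map_bot] at h1)
  have h1 : V ≤ o2 (centralizer (D : Set G)) := a.good D inf_le_left hne
  have h2 : o2 (centralizer (D : Set G)) ≤ normalizer (V : Set G) :=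
    (a.inv.toInv.o2_le (inf_le_left : D ≤ V)).trans hN
  have e : cj g (o2 (centralizer ((cj g⁻¹ D : Subgroup G) : Set G))) = o2 (centralizer (D : Set G)) := by
    rw [← o2_cj, cj_centralizer, cj_cj_inv]
  have h3 : cj g V ≤ o2 (centralizer (D : Set G)) := by
    rw [← e]
    exact cj_mono g (a.good _ hD' hne')
  have h4 : o2 (centralizer (D : Set G)) ≤ normalizer ((cj g V : Subgroup G) : Set G) := by
    rw [← e, ← cj_normalizer]
    exact cj_mono g ((a.inv.toInv.o2_le hD').trans hN)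
  refine EZero.comm_of_norm a.nff (a.nff.cj g) (Union.V_sq a.inv.toInv) ?_ (Union.V_comm a.inv.toInv)
    (EZero.cj_cent (Union.V_comm a.inv.toInv)) (h1.trans h4) (h3.trans h2)
  intro b hb
  have h5 := Union.V_sq a.inv.toInv _ (mem_cj.1 hb)
  have e1 : (g⁻¹ * b * g) ^ 2 = g⁻¹ * b ^ 2 * g := by rw [pow_two, pow_two]; group
  rw [e1] at h5
  have h6 : b ^ 2 = g * (g⁻¹ * b ^ 2 * g) * g⁻¹ := by group
  rw [h6, h5]; group

/-- `V` depends only on `T`: a line through `D ≤ V` is a `C_G(D)`-conjugate of `V`. -/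
theorem InvU.exists_cj (h : InvU (S : Subgroup G) P M) {D : Subgroup G} (hD : D ≤ zl (S : Subgroup G) M) {g : G}
    (hg : D ≤ cj g (zl (S : Subgroup G) M)) :
    ∃ c ∈ centralizer (D : Set G), cj g (zl (S : Subgroup G) M) = cj c (zl (S : Subgroup G) M) := by
  set V := zl (S : Subgroup G) M with hV
  have hD' : cj g⁻¹ D ≤ V := by
    have := cj_mono g⁻¹ hg
    rwa [cj_inv_cj] at this
  obtain ⟨T, hT⟩ := exists_syl_of (M ⊓ centralizer (D : Set G))
  obtain ⟨T', hT'⟩ := exists_syl_of (M ⊓ centralizer ((cj g⁻¹ D : Subgroup G) : Set G))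
  obtain ⟨m, hm, e1, -⟩ := h.toInv.exists_conj hT
  obtain ⟨m', hm', e2, -⟩ := h.toInv.exists_conj hT'
  have h1 : Syl T (centralizer (D : Set G)) := h.toInv.syl hD hT
  have h2 : Syl (cj g T') (centralizer (D : Set G)) := by
    have := syl_cj (h.toInv.syl hD' hT') g
    rwa [cj_centralizer, cj_cj_inv] at this
  obtain ⟨c, hc, hcT⟩ := syl_conj h1 h2
  refine ⟨c, hc, ?_⟩
  -- `a = m' g⁻¹ c m⁻¹` moves `T₁ = T^m` to `T₂ = T'^m'`
  have hVm : cj m V = V := cj_eq_of_mem_normalizer (MinSimple.VModule.le_normalizer_zl _ M hm)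
  have hVm' : cj m' V = V := cj_eq_of_mem_normalizer (MinSimple.VModule.le_normalizer_zl _ M hm')
  have e3 : cj (m' * g⁻¹ * c * m⁻¹) (cj m T) = cj m' T' := by
    have e4 : m' * g⁻¹ * c * m⁻¹ = (m' * g⁻¹) * (c * m⁻¹) := by group
    rw [e4, ← cj_cj, ← cj_cj c, cj_inv_cj, hcT, cj_cj]
    congr 1
    group
  have hDm : cj m D ≤ V := (cj_mono m hD).trans hVm.le
  have hDm' : cj m' (cj g⁻¹ D) ≤ V := (cj_mono m' hD').trans hVm'.le
  have hmem : m' * g⁻¹ * c * m⁻¹ ∈ M := by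
    refine h.U _ (cj m' T') ?_ ?_ ?_ ?_
    · rw [e2]
      exact inf_le_inf_left _ (centralizer_le hDm')
    · rw [e2]
      exact inf_le_left
    · rw [← e3]
      refine cj_mono _ ?_
      rw [e1]
      exact inf_le_inf_left _ (centralizer_le hDm)
    · rw [← e3]
      refine cj_mono _ ?_
      rw [e1]
      exact inf_le_left
  have hgc : g⁻¹ * c ∈ M := by
    have h5 := mul_mem (mul_mem (inv_mem hm') hmem) hm
    have e5 : m'⁻¹ * (m' * g⁻¹ * c * m⁻¹) * m = g⁻¹ * c := by group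
    rwa [e5] at h5
  rw [eq_comm, EZero.cj_eq_cj_iff]
  exact MinSimple.VModule.le_normalizer_zl _ M hgc

/-- `L = N_G(V) ∩ N_G(C_S(V))` -/
def LL (S M : Subgroup G) : Subgroup G :=
  normalizer (zl S M : Set G) ⊓ normalizer ((S ⊓ centralizer (zl S M : Set G) : Subgroup G) : Set G)

/-- The situation of (3). -/
structure Sit (S : Sylow 2 G) (P M F X : Subgroup G) : Prop where
  alpha : Alpha S P M
  F_le : F ≤ zl (S : Subgroup G) M
  F_ne_bot : F ≠ ⊥
  nle : ¬ centralizer (F : Set G) ≤ normalizer (zl (S : Subgroup G) M : Set G)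
  max : ∀ D : Subgroup G, F ≤ D → D ≤ zl (S : Subgroup G) M →
    ¬ centralizer (D : Set G) ≤ normalizer (zl (S : Subgroup G) M : Set G) → D = F
  syl : Syl ((S : Subgroup G) ⊓ centralizer (F : Set G)) (M ⊓ centralizer (F : Set G))
  T_le_X : (S : Subgroup G) ⊓ centralizer (F : Set G) ≤ X
  X_le : X ≤ centralizer (F : Set G)
  X_nle : ¬ X ≤ normalizer (zl (S : Subgroup G) M : Set G)
  X_min : ∀ Y : Subgroup G, (S : Subgroup G) ⊓ centralizer (F : Set G) ≤ Y → Y ≤ X →
    ¬ Y ≤ normalizer (zl (S : Subgroup G) M : Set G) → Y = X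

/-- Every `F₀ ≤ V`, `F₀ ≠ 1`, `C_G(F₀) ≰ N_G(V)`, lies up to an element of `M` in the `F` of a situation. -/
theorem Alpha.exists_sit (a : Alpha S P M) {F₀ : Subgroup G} (h1 : F₀ ≤ zl (S : Subgroup G) M) (h2 : F₀ ≠ ⊥)
    (h3 : ¬ centralizer (F₀ : Set G) ≤ normalizer (zl (S : Subgroup G) M : Set G)) :
    ∃ m ∈ M, ∃ F X : Subgroup G, cj m F₀ ≤ F ∧ Sit S P M F X := by
  obtain ⟨F₁, hF1, hF2⟩ := Set.Finite.exists_le_maximal (Set.toFinite {F : Subgroup G |
    F ≤ zl (S : Subgroup G) M ∧ ¬ centralizer (F : Set G) ≤ normalizer (zl (S : Subgroup G) M : Set G)}) ⟨h1, h3⟩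
  obtain ⟨T, hT⟩ := exists_syl_of (M ⊓ centralizer (F₁ : Set G))
  obtain ⟨m, hm, e1, hs⟩ := a.inv.toInv.exists_conj hT
  have hmN := MinSimple.VModule.le_normalizer_zl (S : Subgroup G) M hm
  have hV := cj_eq_of_mem_normalizer hmN
  have hV' := cj_eq_of_mem_normalizer (inv_mem hmN)
  have hN : cj m (normalizer (zl (S : Subgroup G) M : Set G)) = normalizer (zl (S : Subgroup G) M : Set G) := by
    rw [cj_normalizer, hV]
  have hFV : cj m F₁ ≤ zl (S : Subgroup G) M := (cj_mono m hF2.1.1).trans hV.le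
  have hFn : ¬ centralizer ((cj m F₁ : Subgroup G) : Set G) ≤ normalizer (zl (S : Subgroup G) M : Set G) := by
    rw [← cj_centralizer, ← hN]
    exact fun h0 => hF2.1.2 (by
      have := cj_mono m⁻¹ h0
      rwa [cj_inv_cj, cj_inv_cj] at this)
  obtain ⟨X, -, hX⟩ := Set.Finite.exists_le_minimal (Set.toFinite {X : Subgroup G |
    (S : Subgroup G) ⊓ centralizer ((cj m F₁ : Subgroup G) : Set G) ≤ X ∧
      X ≤ centralizer ((cj m F₁ : Subgroup G) : Set G) ∧ ¬ X ≤ normalizer (zl (S : Subgroup G) M : Set G)})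
    ⟨inf_le_right, le_rfl, hFn⟩
  refine ⟨m, hm, cj m F₁, X, cj_mono m hF1, a, hFV, ?_, hFn, ?_, hs, hX.1.1, hX.1.2.1, hX.1.2.2, ?_⟩
  · intro h0
    apply h2
    have h4 : F₁ = ⊥ := by
      have := congrArg (cj m⁻¹) h0
      rwa [cj_inv_cj, cj, Subgroup.map_bot] at this
    exact le_bot_iff.1 (h4 ▸ hF1)
  · intro D hFD hDV hDn
    have h4 : F₁ ≤ cj m⁻¹ D := by rwa [← cj_le_iff]
    have h5 : ¬ centralizer ((cj m⁻¹ D : Subgroup G) : Set G) ≤ normalizer (zl (S : Subgroup G) M : Set G) := by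
      intro h0
      apply hDn
      have := cj_mono m h0
      rwa [cj_centralizer, cj_cj_inv, hN] at this
    have h6 := hF2.2 ⟨(cj_mono m⁻¹ hDV).trans hV'.le, h5⟩ h4
    have h7 := cj_mono m h6
    rw [cj_cj_inv] at h7
    exact le_antisymm h7 hFD
  · intro Y hY1 hY2 hY3
    exact le_antisymm hY2 (hX.2 ⟨hY1, hY2.trans hX.1.2.1, hY3⟩ hY2)

/-- `F ≥ Z` can be chosen. -/
theorem Alpha.exists_sit_Z (a : Alpha S P M) (hZ : zc (S : Subgroup G) ≠ ⊥)
    (hn : ¬ centralizer (zc (S : Subgroup G) : Set G) ≤ normalizer (zl (S : Subgroup G) M : Set G)) :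
    ∃ F X : Subgroup G, zc (S : Subgroup G) ≤ F ∧ Sit S P M F X := by
  obtain ⟨F₁, hF1, hF2⟩ := Set.Finite.exists_le_maximal (Set.toFinite {F : Subgroup G |
    F ≤ zl (S : Subgroup G) M ∧ ¬ centralizer (F : Set G) ≤ normalizer (zl (S : Subgroup G) M : Set G)})
    ⟨Union.Z_le a.inv.toInv, hn⟩
  obtain ⟨T, hT⟩ := exists_syl_of (M ⊓ centralizer (F₁ : Set G))
  -- `S` is Sylow in `C_M(Z) ≥ T`
  have hSZ : (S : Subgroup G) ≤ M ⊓ centralizer (zc (S : Subgroup G) : Set G) :=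
    le_inf a.inv.SM (le_centralizer_zc _)
  obtain ⟨m, hm, hmS⟩ := exists_conj_le hSZ hT.2.1 (hT.1.trans (inf_le_inf_left _ (centralizer_le hF1)))
  have hmN := MinSimple.VModule.le_normalizer_zl (S : Subgroup G) M hm.1
  have hV := cj_eq_of_mem_normalizer hmN
  have hV' := cj_eq_of_mem_normalizer (inv_mem hmN)
  have hM : cj m M = M := cj_eq_of_mem_normalizer (le_normalizer hm.1)
  have hN : cj m (normalizer (zl (S : Subgroup G) M : Set G)) = normalizer (zl (S : Subgroup G) M : Set G) := by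
    rw [cj_normalizer, hV]
  have hZm : cj m (zc (S : Subgroup G)) = zc (S : Subgroup G) :=
    cj_eq_of_mem_normalizer (centralizer_le_normalizer _ hm.2)
  have hFV : cj m F₁ ≤ zl (S : Subgroup G) M := (cj_mono m hF2.1.1).trans hV.le
  have hFn : ¬ centralizer ((cj m F₁ : Subgroup G) : Set G) ≤ normalizer (zl (S : Subgroup G) M : Set G) := by
    rw [← cj_centralizer, ← hN]
    exact fun h0 => hF2.1.2 (by
      have := cj_mono m⁻¹ h0
      rwa [cj_inv_cj, cj_inv_cj] at this)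
  have hs : Syl ((S : Subgroup G) ⊓ centralizer ((cj m F₁ : Subgroup G) : Set G))
      (M ⊓ centralizer ((cj m F₁ : Subgroup G) : Set G)) := by
    have h1 := syl_cj hT m
    rw [cj_inf, hM, cj_centralizer] at h1
    have h2 : cj m T = (S : Subgroup G) ⊓ centralizer ((cj m F₁ : Subgroup G) : Set G) :=
      (h1.2.2 _ (inf_le_inf_right _ a.inv.SM) (S.isPGroup'.to_le inf_le_left)
        (le_inf hmS (h1.1.trans inf_le_right))).symm
    exact h2 ▸ h1
  have hZF : zc (S : Subgroup G) ≤ cj m F₁ := by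
    rw [← hZm]
    exact cj_mono m hF1
  obtain ⟨X, -, hX⟩ := Set.Finite.exists_le_minimal (Set.toFinite {X : Subgroup G |
    (S : Subgroup G) ⊓ centralizer ((cj m F₁ : Subgroup G) : Set G) ≤ X ∧
      X ≤ centralizer ((cj m F₁ : Subgroup G) : Set G) ∧ ¬ X ≤ normalizer (zl (S : Subgroup G) M : Set G)})
    ⟨inf_le_right, le_rfl, hFn⟩
  refine ⟨cj m F₁, X, hZF, a, hFV, fun h0 => hZ (le_bot_iff.1 (h0 ▸ hZF)), hFn, ?_, hs, hX.1.1, hX.1.2.1,
    hX.1.2.2, ?_⟩
  · intro D hFD hDV hDn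
    have h4 : F₁ ≤ cj m⁻¹ D := by rwa [← cj_le_iff]
    have h5 : ¬ centralizer ((cj m⁻¹ D : Subgroup G) : Set G) ≤ normalizer (zl (S : Subgroup G) M : Set G) := by
      intro h0
      apply hDn
      have := cj_mono m h0
      rwa [cj_centralizer, cj_cj_inv, hN] at this
    have h6 := hF2.2 ⟨(cj_mono m⁻¹ hDV).trans hV'.le, h5⟩ h4
    have h7 := cj_mono m h6
    rw [cj_cj_inv] at h7
    exact le_antisymm h7 hFD
  · intro Y hY1 hY2 hY3
    exact le_antisymm hY2 (hX.2 ⟨hY1, hY2.trans hX.1.2.1, hY3⟩ hY2)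

namespace Sit

variable (s : Sit S P M F X)
include s

theorem M_le : M ≤ normalizer (zl (S : Subgroup G) M : Set G) := Union.M_le s.alpha.inv.toInv

/-- `T` is Sylow in `C_G(F)` -/
theorem syl_cent : Syl ((S : Subgroup G) ⊓ centralizer (F : Set G)) (centralizer (F : Set G)) :=
  s.alpha.inv.toInv.syl_base s.F_le s.syl

theorem sylX : Syl ((S : Subgroup G) ⊓ centralizer (F : Set G)) X :=
  IId.KOne.syl_le s.syl_cent s.T_le_X s.X_le

theorem Q0_le : (S : Subgroup G) ⊓ centralizer (zl (S : Subgroup G) M : Set G) ≤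
    (S : Subgroup G) ⊓ centralizer (F : Set G) := inf_le_inf_left _ (centralizer_le s.F_le)

/-- `N_G(T) ≤ M` -/
theorem normalizer_le : normalizer (((S : Subgroup G) ⊓ centralizer (F : Set G) : Subgroup G) : Set G) ≤ M :=
  s.alpha.inv.toInv.J _ s.Q0_le inf_le_left

theorem mp : IsMinPar ((S : Subgroup G) ⊓ centralizer (F : Set G)) X where
  le := s.T_le_X
  not_le := fun h => s.X_nle ((h.trans s.normalizer_le).trans s.M_le)
  exists_max := by
    refine ⟨X ⊓ normalizer (zl (S : Subgroup G) M : Set G), lt_of_le_of_ne inf_le_left fun h =>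
      s.X_nle (h ▸ inf_le_right), fun K hK hKX => le_inf hKX.le ?_⟩
    by_contra hcon
    exact hKX.ne (s.X_min K hK hKX.le hcon)

/-- **(3)** LINE -/
theorem line {x : G} (hx : x ∈ X) (hxN : x ∉ normalizer (zl (S : Subgroup G) M : Set G)) :
    zl (S : Subgroup G) M ⊓ cj x (zl (S : Subgroup G) M) = F := by
  have hF : F ≤ zl (S : Subgroup G) M ⊓ cj x (zl (S : Subgroup G) M) := by
    refine le_inf s.F_le ?_
    have h1 := cj_mono x s.F_le
    have h2 : cj x F = F := by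
      have h3 : x ∈ normalizer (F : Set G) := centralizer_le_normalizer _ (s.X_le hx)
      exact cj_eq_of_mem_normalizer h3
    rwa [h2] at h1
  refine s.max _ hF inf_le_left fun hle => hxN ?_
  obtain ⟨c, hc, e⟩ := s.alpha.inv.exists_cj
    (inf_le_left : zl (S : Subgroup G) M ⊓ cj x (zl (S : Subgroup G) M) ≤ zl (S : Subgroup G) M) (g := x) inf_le_right
  rw [mem_normalizer_iff_cj, e]
  exact cj_eq_of_mem_normalizer (hle hc)

theorem F_ne : F ≠ zl (S : Subgroup G) M := by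
  intro h
  apply s.nle
  rw [h]
  exact centralizer_le_normalizer _

theorem syl_Q0 : Syl ((S : Subgroup G) ⊓ centralizer (zl (S : Subgroup G) M : Set G))
    (centralizer (zl (S : Subgroup G) M : Set G)) := by
  have hS : Syl (S : Subgroup G) (normalizer (zl (S : Subgroup G) M : Set G)) :=
    ⟨s.alpha.inv.SM.trans s.M_le, S.isPGroup', fun Q _ hQ hSQ => S.is_maximal' hQ hSQ⟩
  refine IId.KOne.syl_inf hS (centralizer_le_normalizer _) fun g hg n hn => IId.KOne.conj_cent hg hn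

/-- **(3)**: the abstract situation of K0. -/
theorem base (hloc : NonLoc (LL (S : Subgroup G) M) X) :
    Base (zl (S : Subgroup G) M) F ((S : Subgroup G) ⊓ centralizer (F : Set G)) X (LL (S : Subgroup G) M)
      ((S : Subgroup G) ⊓ centralizer (zl (S : Subgroup G) M : Set G)) where
  sq := Union.V_sq s.alpha.inv.toInv
  comm := Union.V_comm s.alpha.inv.toInv
  nff := s.alpha.nff
  F_le := s.F_le
  F_ne := s.F_ne
  F_ne_bot := s.F_ne_bot
  X_le := s.X_le
  syl := s.sylX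
  mp := s.mp
  nle := s.X_nle
  T_le := by
    refine inf_le_left.trans (le_inf (s.alpha.inv.SM.trans s.M_le) ?_)
    intro x hx
    have hx' := s.M_le (s.alpha.inv.SM hx)
    rw [mem_normalizer_iff_cj, cj_inf, cj_centralizer, cj_eq_of_mem_normalizer hx',
      cj_eq_of_mem_normalizer (le_normalizer hx)]
  L_le := inf_le_left
  Q0_le := s.Q0_le
  L_Q0 := inf_le_right
  Q0_cent := inf_le_right
  le_Q0 := by
    intro R hR hRL hRC
    have h1 : IsPGroup 2 (((S : Subgroup G) ⊓ centralizer (zl (S : Subgroup G) M : Set G)) ⊔ R : Subgroup G) :=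
      IsPGroup.to_sup_of_normal_left' (S.isPGroup'.to_le inf_le_left) hR (hRL.trans inf_le_right)
    have h2 := s.syl_Q0.2.2 _ (sup_le inf_le_right hRC) h1 le_sup_left
    rw [← h2]
    exact le_sup_right
  V_le := le_inf (Union.V_le_S s.alpha.inv.toInv) (Union.V_comm s.alpha.inv.toInv)
  line := fun _ hx hxN => s.line hx hxN
  ti := fun _ hne => s.alpha.ti hne
  nonloc := hloc

/-- **`P ≤ L`** -/
theorem P_le (h : Cf S P) : P ≤ LL (S : Subgroup G) M := by
  have hPN : P ≤ normalizer (zl (S : Subgroup G) M : Set G) := s.alpha.inv.PM.trans s.M_le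
  refine le_inf hPN fun x hx => ?_
  have e : (S : Subgroup G) ⊓ centralizer (zl (S : Subgroup G) M : Set G) =
      o2 P ⊓ centralizer (zl (S : Subgroup G) M : Set G) := by
    rw [← h.S_inf_centralizer, inf_assoc]
    congr 1
    exact (inf_eq_right.2 (centralizer_le (Union.VP_le s.alpha.inv.toInv))).symm
  rw [e, mem_normalizer_iff_cj, cj_inf, cj_centralizer, cj_eq_of_mem_normalizer (hPN hx),
    cj_eq_of_mem_normalizer (MinSimple.VModule.le_normalizer_o2 P hx)]

end Sit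

/-- **(4)** K0 kills ALPHA in the nonlocal case, given `C_U(T) ≤ C(O²(X))`. -/
theorem Sit.absurd (s : Sit S P M F X) (hov : K0.NoOv X)
    (hfull : K0.FullOff ((S : Subgroup G) ⊓ centralizer (F : Set G)) X) (hloc : NonLoc (LL (S : Subgroup G) M) X)
    (hcen : EZero.cl (zl (S : Subgroup G) M) X ⊓
      centralizer (((S : Subgroup G) ⊓ centralizer (F : Set G) : Subgroup G) : Set G) ≤
        centralizer (oddGen X : Set G)) : False :=
  (s.base hloc).absurd hov hfull hcen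

/-- (CEN) for `F = Z` -/
theorem Sit.cen_of_Z (s : Sit S P M F X) (hF : F = zc (S : Subgroup G)) (hloc : NonLoc (LL (S : Subgroup G) M) X) :
    EZero.cl (zl (S : Subgroup G) M) X ⊓
      centralizer (((S : Subgroup G) ⊓ centralizer (F : Set G) : Subgroup G) : Set G) ≤
        centralizer (oddGen X : Set G) := by
  have hT : (S : Subgroup G) ⊓ centralizer (F : Set G) = S := by
    rw [inf_eq_left, hF]
    exact le_centralizer_zc _
  intro y hy
  rw [hT] at hy
  have hyS : y ∈ (S : Subgroup G) := (o2_le_syl s.sylX ((s.base hloc).U_le_o2 hy.1)).1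
  have h1 : y ∈ F := by
    rw [hF]
    exact mem_zc.2 ⟨hyS, (s.base hloc).U_sq y hy.1, hy.2⟩
  rw [mem_centralizer_iff]
  intro x hx
  exact (mem_centralizer_iff.1 (s.X_le (MinSimple.VModule.oddGen_le X hx)) y h1).symm

/-- **(5)**: the first member of the chain which does not contain `X`. -/
theorem Sit.first (s : Sit S P M F X) (c : Ch (S : Subgroup G) P (Fam (S : Subgroup G)) M) :
    ¬ X ≤ normalizer (jj (S : Subgroup G) : Set G) ∨
      ∃ (M' : Subgroup G) (SS : Set (Subgroup G)), Ch (S : Subgroup G) P (Fam (S : Subgroup G)) M' ∧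
        Fam (S : Subgroup G) M' SS ∧ (∀ Y ∈ SS, Y ≤ S → Y ≤ o2 P) ∧
        M ≤ M' ⊓ normalizer (KK (S : Subgroup G) M' SS : Set G) ∧ X ≤ M' ∧
        KK (S : Subgroup G) M' SS ≤ (S : Subgroup G) ⊓ centralizer (zl (S : Subgroup G) M : Set G) ∧
        ¬ KK (S : Subgroup G) M' SS ≤ o2 X := by
  have hX : ¬ X ≤ M := fun h => s.X_nle (h.trans s.M_le)
  rcases c.exists_first hX with h | ⟨M', SS, c', hF, hSS, hle, hMM, hXM, hn⟩
  · exact Or.inl h
  · exact Or.inr ⟨M', SS, c', hF, hle, hMM, hXM, KK_le_of_le hMM,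
      not_KK_le hSS hXM ((o2_le_syl s.sylX).trans inf_le_left) hn⟩

end Cfsg.Agent.Omega.NO3b.Union
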