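import Cfsg.Agent.Omega.NO3b.Union.Chain

/-!
# The union text for NotFF (helper1, #15791; referee #15980), part (1): the dichotomy

* `offFam V` : the best offenders on `V`; `badFam V` : the groups `W_F`, `F ≤ V` maximal bad;
* `Fam S M SS` : `SS = offFam V`, or `V` is not FF and `SS = badFam V`; `V = ⟨Z^M⟩`;
* `Alpha S P M` : `V` is not FF, no `1 ≠ F ≤ V` is bad;
* `Cf.exists_chain` : a member `M` of the chain with `V` not FF, and `Alpha` or (BETA) a maximal bad `F` with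
  `W_F ≤ S`, `W_F ≰ O₂(P)`.
-/

set_option autoImplicit false
set_option linter.unusedSectionVars false

namespace Cfsg.Agent.Omega.NO3b.Union

open Subgroup Cfsg Cfsg.Agent.ZN Cfsg.Agent.ZN.ChoiceBase Cfsg.Agent.Omega.MinPar Cfsg.Agent.Omega.Frame
open Cfsg.Agent.Omega.NO1 Cfsg.Agent.Omega.NO1.JMin
open Cfsg.Agent.ZN.ChoiceSit (Syl syl_conj exists_syl o2_le_syl o2_cj)
open Cfsg.Agent.Omega.FFThm (OffM relIndex_le_iff)
open Cfsg.Agent.Omega.NO1.BestOff (Best exists_best)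
open Cfsg.Agent.Omega.NO3b.EZero (NotFF)
open Cfsg.Agent.Omega.NOne.Flat (Bad WW)
open Cfsg.Agent.MinSimple.VModule (o2_isPGroup)
open scoped Pointwise

universe u

variable {G : Type u} [Group G]

/-- the best offenders on `V` -/
def offFam (V : Subgroup G) : Set (Subgroup G) := {X | Best V X}

/-- the groups `W_F`, `F` a maximal bad subgroup of `V` -/
def badFam (V : Subgroup G) : Set (Subgroup G) :=
  {X | ∃ F : Subgroup G, Bad V F ∧ (∀ D : Subgroup G, Bad V D → F ≤ D → D = F) ∧ X = WW V F}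

theorem offFam_cj {V : Subgroup G} {m : G} (hm : m ∈ normalizer (V : Set G)) {X : Subgroup G}
    (hX : X ∈ offFam V) : cj m X ∈ offFam V :=
  Best.conj hX hm

theorem EE_cj (m : G) (V F : Subgroup G) : cj m (NOne.Flat.EE V F) = NOne.Flat.EE (cj m V) (cj m F) := by
  rw [NOne.Flat.EE, NOne.Flat.EE, cj_inf, ← o2_cj, cj_centralizer]

theorem cj_WW_le (m : G) (V F : Subgroup G) : cj m (WW V F) ≤ WW (cj m V) (cj m F) := by
  rw [cj, Subgroup.map_le_iff_le_comap]
  refine NoFF.Basic.V_le fun p hp => ?_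
  rw [← Subgroup.map_le_iff_le_comap]
  have h1 : m * p * m⁻¹ ∈ centralizer ((cj m F : Subgroup G) : Set G) := by
    rw [← cj_centralizer]
    exact EZero.mem_cj_self hp
  have h2 : cj m (cj p (NOne.Flat.EE V F)) = cj (m * p * m⁻¹) (NOne.Flat.EE (cj m V) (cj m F)) := by
    rw [← EE_cj, cj_cj, cj_cj]
    congr 1
    group
  exact h2.le.trans (NoFF.Basic.Z_le_V h1)

theorem WW_cj (m : G) (V F : Subgroup G) : cj m (WW V F) = WW (cj m V) (cj m F) := by
  refine le_antisymm (cj_WW_le m V F) ?_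
  have h1 := cj_WW_le m⁻¹ (cj m V) (cj m F)
  rw [cj_inv_cj, cj_inv_cj, cj_le_iff, inv_inv] at h1
  exact h1

theorem Bad.cj {V F : Subgroup G} (h : Bad V F) (m : G) : Bad (cj m V) (cj m F) where
  ne := fun h0 => h.ne (by
    have h1 := congrArg (ChoiceBase.cj m⁻¹) h0
    rwa [cj_inv_cj, ChoiceBase.cj, Subgroup.map_bot] at h1)
  le := cj_mono m h.le
  not_le := fun h0 => h.not_le (by
    rw [← cj_centralizer, o2_cj, cj_le_iff, cj_inv_cj] at h0
    exact h0)

theorem badFam_cj {V : Subgroup G} {m : G} (hm : m ∈ normalizer (V : Set G)) {X : Subgroup G}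
    (hX : X ∈ badFam V) : cj m X ∈ badFam V := by
  obtain ⟨F, hF, hmax, rfl⟩ := hX
  have hV := cj_eq_of_mem_normalizer hm
  have hV' := cj_eq_of_mem_normalizer (inv_mem hm)
  refine ⟨cj m F, ?_, ?_, ?_⟩
  · have := Bad.cj hF m
    rwa [hV] at this
  · intro D hD hle
    have h1 := Bad.cj hD m⁻¹
    rw [hV'] at h1
    have h2 := hmax _ h1 (by rwa [← cj_le_iff])
    rw [← h2, cj_cj_inv]
  · rw [WW_cj, hV]

/-- The two kinds of families. -/
def Fam (S M : Subgroup G) (SS : Set (Subgroup G)) : Prop :=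
  SS = offFam (zl S M) ∨ (NotFF (zl S M) ∧ SS = badFam (zl S M))

theorem Fam.inv {S M : Subgroup G} {SS : Set (Subgroup G)} (h : Fam S M SS) :
    ∀ m ∈ M, ∀ X ∈ SS, cj m X ∈ SS := by
  intro m hm X hX
  have hm' := MinSimple.VModule.le_normalizer_zl S M hm
  rcases h with rfl | ⟨-, rfl⟩
  · exact offFam_cj hm' hX
  · exact badFam_cj hm' hX

variable [Finite G]

/-- **ALPHA** -/
structure Alpha (S : Sylow 2 G) (P M : Subgroup G) : Prop where
  inv : InvU (S : Subgroup G) P M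
  nff : NotFF (zl (S : Subgroup G) M)
  good : ∀ F : Subgroup G, F ≤ zl (S : Subgroup G) M → F ≠ ⊥ →
    zl (S : Subgroup G) M ≤ o2 (centralizer (F : Set G))

section

variable {S : Sylow 2 G} {P M : Subgroup G}

/-- `V` is not FF if the best offenders do not stop the recursion. -/
theorem notFF (h : Cf S P) (hI : InvU (S : Subgroup G) P M)
    (hmin : (∃ X ∈ offFam (zl (S : Subgroup G) M), X ≤ S ∧
        ¬ X ≤ centralizer (zl (S : Subgroup G) M : Set G)) →
      ∃ X ∈ offFam (zl (S : Subgroup G) M), X ≤ S ∧ ¬ X ≤ o2 P) : NotFF (zl (S : Subgroup G) M) := by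
  intro A hA hN hsq hcm hne
  by_contra hcon
  rw [not_lt, ← relIndex_le_iff] at hcon
  have hoff : OffM (zl (S : Subgroup G) M) A := ⟨⟨hsq, hcm⟩, hne, hcon⟩
  obtain ⟨X, hXA, hX, hXne⟩ := exists_best hoff
  obtain ⟨n, hn, hnX⟩ := exists_conj_le (hI.SM.trans (Union.M_le hI.toInv)) (hA.to_le hXA) (hXA.trans hN)
  have hV := cj_eq_of_mem_normalizer hn
  obtain ⟨Y, hY, hYS, hYP⟩ := hmin ⟨cj n X, offFam_cj hn hX, hnX, fun h1 => hXne (by
    rw [cj_le_iff, cj_centralizer, cj_eq_of_mem_normalizer (inv_mem hn)] at h1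
    exact h1)⟩
  apply hYP
  rw [← h.S_inf_centralizer]
  refine le_inf hYS ?_
  by_contra hcon'
  exact h.noOff Y hYS (Best.offM hY (Union.VP_le hI.toInv) hcon')

theorem card_lt {V A B D : Subgroup G} (h : B.relIndex A < D.relIndex V) :
    Nat.card A * Nat.card ↥(V ⊓ D) < Nat.card V * Nat.card ↥(A ⊓ B) := by
  by_contra hcon
  rw [not_lt] at hcon
  exact absurd h (not_lt.2 (relIndex_le_iff.1 hcon))

/-- The hypotheses of THEOREM FLAT. -/
theorem flatHyp (hc : IsCharacteristicTwoType G) (hI : InvU (S : Subgroup G) P M)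
    (hnff : NotFF (zl (S : Subgroup G) M)) {F : Subgroup G} (hF : Bad (zl (S : Subgroup G) M) F)
    (hmax : ∀ D : Subgroup G, Bad (zl (S : Subgroup G) M) D → F ≤ D → D = F) :
    NOne.Flat.Hyp (zl (S : Subgroup G) M) F where
  comm := Union.V_comm hI.toInv
  sq := Union.V_sq hI.toInv
  syl := fun D _ hD => (hI.toInv.o2_le hD).trans (Union.M_le hI.toInv)
  noff := by
    intro A hN hA h2 hne
    refine card_lt (hnff A (fun x => ⟨1, Subtype.ext (by simpa using h2 x x.2)⟩) hN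
      (fun a ha => by rw [h2 a ha]; exact one_mem _) (fun a ha b hb => ?_) hne)
    have e : a * b = b * a := (mem_centralizer_iff.1 (hA ha) b hb).symm
    rw [e, mul_inv_cancel_right, mul_inv_cancel]
    exact one_mem _
  char2 := NOne.LemmaT.char2_centralizer hc ((Union.V_two hI.toInv).to_le hF.le) hF.ne
  bad := hF
  max := hmax

/-- `W_F` does not centralise `V`. -/
theorem not_WW_le {V F : Subgroup G} (h : NOne.Flat.Hyp V F) : ¬ WW V F ≤ centralizer (V : Set G) := by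
  intro hle
  obtain ⟨w, hw, hwE⟩ := SetLike.not_le_iff_exists.1 h.bad.not_le
  obtain ⟨e, he, heF⟩ := SetLike.exists_of_lt h.F_lt_E
  obtain ⟨s, hs, hse⟩ := h.surj hw (fun h1 => hwE h1.2) he
  apply heF
  have h1 : NOne.NearFF.c w s = 1 := by
    have h2 := mem_centralizer_iff.1 (hle hs) w hw
    rw [NOne.NearFF.c, h2, mul_inv_cancel_right, mul_inv_cancel]
  rw [h1, one_mul] at hse
  exact inv_mem_iff.1 hse

/-- **(1)**: the chain ends with `V` not FF and (ALPHA) or (BETA). -/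
theorem Cf.exists_chain (h : Cf S P) : ∃ M : Subgroup G, Ch (S : Subgroup G) P (Fam (S : Subgroup G)) M ∧
    NotFF (zl (S : Subgroup G) M) ∧
    (Alpha S P M ∨ ∃ F : Subgroup G, NOne.Flat.Hyp (zl (S : Subgroup G) M) F ∧
      WW (zl (S : Subgroup G) M) F ≤ S ∧ ¬ WW (zl (S : Subgroup G) M) F ≤ o2 P) := by
  obtain ⟨M, c, hmin⟩ := h.exists_min (Fam (S : Subgroup G))
  have hI := c.invU h
  have hnff : NotFF (zl (S : Subgroup G) M) := notFF h hI (hmin _ (Or.inl rfl) (Fam.inv (Or.inl rfl)))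
  refine ⟨M, c, hnff, ?_⟩
  by_cases hbad : ∃ F, Bad (zl (S : Subgroup G) M) F
  · right
    obtain ⟨F₀, hF₀⟩ := hbad
    obtain ⟨F, -, hF, hmax⟩ : ∃ F, F₀ ≤ F ∧ Bad (zl (S : Subgroup G) M) F ∧
        ∀ D : Subgroup G, Bad (zl (S : Subgroup G) M) D → F ≤ D → D = F := by
      obtain ⟨F, hF1, hF2⟩ := Set.Finite.exists_le_maximal
        (Set.toFinite {F : Subgroup G | Bad (zl (S : Subgroup G) M) F}) hF₀
      exact ⟨F, hF1, hF2.1, fun D hD hle => le_antisymm (hF2.2 hD hle) hle⟩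
    have hfl := flatHyp h.char2 hI hnff hF hmax
    have hWM : WW (zl (S : Subgroup G) M) F ≤ M := NOne.Flat.Hyp.W_le_R.trans (hI.toInv.o2_le hF.le)
    have hW2 : IsPGroup 2 (WW (zl (S : Subgroup G) M) F : Subgroup G) :=
      (o2_isPGroup _).to_le NOne.Flat.Hyp.W_le_R
    obtain ⟨m, hm, hmW⟩ := exists_conj_le hI.SM hW2 hWM
    have hmN := Union.M_le hI.toInv hm
    have hfam : Fam (S : Subgroup G) M (badFam (zl (S : Subgroup G) M)) := Or.inr ⟨hnff, rfl⟩
    obtain ⟨X, ⟨F', hF', hmax', rfl⟩, hXS, hXP⟩ := hmin _ hfam (Fam.inv hfam)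
      ⟨cj m (WW (zl (S : Subgroup G) M) F), badFam_cj hmN ⟨F, hF, hmax, rfl⟩, hmW, fun h1 => not_WW_le hfl (by
        rw [cj_le_iff, cj_centralizer, cj_eq_of_mem_normalizer (inv_mem hmN)] at h1
        exact h1)⟩
    exact ⟨F', flatHyp h.char2 hI hnff hF' hmax', hXS, hXP⟩
  · left
    refine ⟨hI, hnff, fun F hF hF1 => ?_⟩
    by_contra hcon
    exact hbad ⟨F, hF1, hF, hcon⟩

end

end Cfsg.Agent.Omega.NO3b.Union
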